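import Cfsg.Agent.Lib.PermComp.Core

/-! # A chain for `Sp₆(2)` on the 64 vectors, generated by a script. -/

set_option autoImplicit false
set_option maxRecDepth 100000

namespace Cfsg.Agent.Lib.Schur.Sp62.Data

open _root_.Cfsg.Agent.Lib.PermComp

def g_n : Nat := nat_lit 64
def g_w : Nat := nat_lit 6
def g_mask : Nat := nat_lit 63
def g_L : Nat := nat_lit 384
def g_maskL : Nat := nat_lit 0xffffffffffffffffffffffffffffffffffffffffffffffffffffffffffffffffffffffffffffffffffffffffffffffff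
def g_idc : Nat := nat_lit 0xffef7cefae78df6d74cf2c70beeb6caeaa689e69648e28607de75c6da6585d65544d24503ce34c2ca2481c61440c2040
def g_T : List Nat := [nat_lit 0x97ef6687ae62b76d6ea72c6abf4decaf0ce89fcfe48f8ee015e74605a64235654e25244a3d45cc2d04c81dc7c40d86c0, nat_lit 0xfc10bc13ae47236d4bccd3b042eb53ad55a89d96a472285f81e7636e59985e9a94b1246f3f1c8cd0a277e0617b0fdf80, nat_lit 0xffef7c7de75cdf6d745d6554beeb6c3ce34c9e69641c6144efae786da658cf2c704d2450aeaa682ca2488e28600c2040, nat_lit 0xff4f76ef0e72dfcd7ecf8c7a96e9ec86a8e8b66be4a62ae07d47566d06525dc55e4d845a14e1cc04a0c83463c42422c0, nat_lit 0xffef7cefae78d35db7c31cb3b2dbafa29aab9e69648e28607de75c6da65851559741149330d38f20928b1c61440c2040, nat_lit 0xffef7cefae78df6d74cf2c70a68aeab6cbee8608e29649e66586da75c7de4504d25545d63ce34c2ca2481c61440c2040, nat_lit 0xffef7c69b619597515cf2c70beeb6c28b2091871058e28607de75cebbe39db7d354d24503ce34caaba299a79250c2040]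
def g_prog : List (Nat × Nat × Nat) := [(nat_lit 1, nat_lit 6, nat_lit 0), (nat_lit 1, nat_lit 6, nat_lit 0), (nat_lit 1, nat_lit 5, nat_lit 0), (nat_lit 1, nat_lit 3, nat_lit 0), (nat_lit 1, nat_lit 6, nat_lit 0), (nat_lit 0, nat_lit 10, nat_lit 9), (nat_lit 0, nat_lit 0, nat_lit 12), (nat_lit 0, nat_lit 0, nat_lit 10), (nat_lit 0, nat_lit 0, nat_lit 8), (nat_lit 0, nat_lit 7, nat_lit 6), (nat_lit 0, nat_lit 0, nat_lit 1), (nat_lit 0, nat_lit 14, nat_lit 12), (nat_lit 0, nat_lit 0, nat_lit 15), (nat_lit 0, nat_lit 0, nat_lit 13), (nat_lit 0, nat_lit 0, nat_lit 19), (nat_lit 0, nat_lit 0, nat_lit 21), (nat_lit 0, nat_lit 0, nat_lit 19), (nat_lit 0, nat_lit 0, nat_lit 23), (nat_lit 0, nat_lit 0, nat_lit 18), (nat_lit 0, nat_lit 0, nat_lit 22), (nat_lit 0, nat_lit 0, nat_lit 23), (nat_lit 0, nat_lit 19, nat_lit 0), (nat_lit 0, nat_lit 24, nat_lit 23), (nat_lit 0, nat_lit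 0, nat_lit 26), (nat_lit 0, nat_lit 0, nat_lit 28), (nat_lit 0, nat_lit 22, nat_lit 20), (nat_lit 0, nat_lit 0, nat_lit 1), (nat_lit 0, nat_lit 28, nat_lit 29), (nat_lit 0, nat_lit 0, nat_lit 34), (nat_lit 0, nat_lit 0, nat_lit 33), (nat_lit 0, nat_lit 0, nat_lit 36), (nat_lit 0, nat_lit 0, nat_lit 37), (nat_lit 0, nat_lit 0, nat_lit 38), (nat_lit 0, nat_lit 34, nat_lit 39), (nat_lit 0, nat_lit 0, nat_lit 37), (nat_lit 0, nat_lit 0, nat_lit 36), (nat_lit 0, nat_lit 0, nat_lit 41), (nat_lit 0, nat_lit 0, nat_lit 40), (nat_lit 0, nat_lit 0, nat_lit 39), (nat_lit 0, nat_lit 0, nat_lit 45), (nat_lit 0, nat_lit 0, nat_lit 42), (nat_lit 0, nat_lit 0, nat_lit 46), (nat_lit 0, nat_lit 0, nat_lit 42), (nat_lit 0, nat_lit 0, nat_lit 46), (nat_lit 0, nat_lit 43, nat_lit 40), (nat_lit 0, nat_lit 0, nat_lit 42), (nat_lit 0, nat_lit 0, nat_lit 41), (nat_lit 0, nat_lit 0, nat_lit 3),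 (nat_lit 1, nat_lit 37, nat_lit 0), (nat_lit 1, nat_lit 27, nat_lit 0), (nat_lit 1, nat_lit 2, nat_lit 0), (nat_lit 1, nat_lit 18, nat_lit 0), (nat_lit 1, nat_lit 25, nat_lit 0), (nat_lit 0, nat_lit 20, nat_lit 31), (nat_lit 0, nat_lit 0, nat_lit 27), (nat_lit 0, nat_lit 0, nat_lit 33), (nat_lit 0, nat_lit 0, nat_lit 34), (nat_lit 0, nat_lit 0, nat_lit 24), (nat_lit 0, nat_lit 0, nat_lit 31), (nat_lit 0, nat_lit 0, nat_lit 48), (nat_lit 0, nat_lit 0, nat_lit 27), (nat_lit 0, nat_lit 0, nat_lit 13), (nat_lit 0, nat_lit 0, nat_lit 51), (nat_lit 0, nat_lit 0, nat_lit 41), (nat_lit 0, nat_lit 13, nat_lit 13), (nat_lit 0, nat_lit 0, nat_lit 12), (nat_lit 0, nat_lit 0, nat_lit 17), (nat_lit 0, nat_lit 0, nat_lit 3), (nat_lit 0, nat_lit 41, nat_lit 41), (nat_lit 0, nat_lit 0, nat_lit 21), (nat_lit 0, nat_lit 0, nat_lit 37), (nat_lit 0, nat_lit 0, nat_lit 23), (nat_lit 0, nat_lit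 22, nat_lit 20), (nat_lit 0, nat_lit 0, nat_lit 22), (nat_lit 0, nat_lit 0, nat_lit 2), (nat_lit 0, nat_lit 53, nat_lit 48), (nat_lit 0, nat_lit 0, nat_lit 28), (nat_lit 0, nat_lit 0, nat_lit 44), (nat_lit 0, nat_lit 0, nat_lit 30), (nat_lit 0, nat_lit 0, nat_lit 46), (nat_lit 0, nat_lit 0, nat_lit 32), (nat_lit 0, nat_lit 0, nat_lit 70), (nat_lit 0, nat_lit 17, nat_lit 30), (nat_lit 0, nat_lit 0, nat_lit 32), (nat_lit 0, nat_lit 0, nat_lit 2), (nat_lit 0, nat_lit 52, nat_lit 52), (nat_lit 0, nat_lit 0, nat_lit 53), (nat_lit 0, nat_lit 0, nat_lit 65), (nat_lit 0, nat_lit 0, nat_lit 61), (nat_lit 0, nat_lit 0, nat_lit 41), (nat_lit 0, nat_lit 0, nat_lit 63), (nat_lit 0, nat_lit 40, nat_lit 39), (nat_lit 0, nat_lit 0, nat_lit 1), (nat_lit 0, nat_lit 82, nat_lit 45), (nat_lit 0, nat_lit 0, nat_lit 83), (nat_lit 0, nat_lit 0, nat_lit 73), (nat_lit 0, nat_lit 0, nat_lit 48),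 (nat_lit 0, nat_lit 0, nat_lit 64), (nat_lit 0, nat_lit 0, nat_lit 71), (nat_lit 0, nat_lit 0, nat_lit 66), (nat_lit 0, nat_lit 0, nat_lit 89), (nat_lit 0, nat_lit 0, nat_lit 68), (nat_lit 0, nat_lit 0, nat_lit 91), (nat_lit 0, nat_lit 54, nat_lit 51), (nat_lit 0, nat_lit 0, nat_lit 1), (nat_lit 0, nat_lit 78, nat_lit 83), (nat_lit 0, nat_lit 0, nat_lit 84), (nat_lit 0, nat_lit 0, nat_lit 59), (nat_lit 0, nat_lit 0, nat_lit 86), (nat_lit 0, nat_lit 0, nat_lit 98), (nat_lit 0, nat_lit 0, nat_lit 88), (nat_lit 0, nat_lit 0, nat_lit 63), (nat_lit 0, nat_lit 0, nat_lit 64), (nat_lit 0, nat_lit 0, nat_lit 91), (nat_lit 0, nat_lit 48, nat_lit 0), (nat_lit 1, nat_lit 47, nat_lit 0), (nat_lit 1, nat_lit 41, nat_lit 0), (nat_lit 1, nat_lit 32, nat_lit 0), (nat_lit 1, nat_lit 13, nat_lit 0), (nat_lit 1, nat_lit 4, nat_lit 0), (nat_lit 0, nat_lit 27, nat_lit 35), (nat_lit 0, nat_lit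 0, nat_lit 16), (nat_lit 0, nat_lit 0, nat_lit 37), (nat_lit 0, nat_lit 0, nat_lit 30), (nat_lit 0, nat_lit 0, nat_lit 39), (nat_lit 0, nat_lit 0, nat_lit 10), (nat_lit 0, nat_lit 0, nat_lit 21), (nat_lit 0, nat_lit 0, nat_lit 22), (nat_lit 0, nat_lit 0, nat_lit 13), (nat_lit 0, nat_lit 0, nat_lit 61), (nat_lit 0, nat_lit 0, nat_lit 37), (nat_lit 0, nat_lit 16, nat_lit 56), (nat_lit 0, nat_lit 0, nat_lit 27), (nat_lit 0, nat_lit 0, nat_lit 28), (nat_lit 0, nat_lit 0, nat_lit 59), (nat_lit 0, nat_lit 0, nat_lit 42), (nat_lit 0, nat_lit 0, nat_lit 68), (nat_lit 0, nat_lit 0, nat_lit 44), (nat_lit 0, nat_lit 0, nat_lit 53), (nat_lit 0, nat_lit 0, nat_lit 34), (nat_lit 0, nat_lit 0, nat_lit 35), (nat_lit 0, nat_lit 0, nat_lit 66), (nat_lit 0, nat_lit 26, nat_lit 22), (nat_lit 0, nat_lit 0, nat_lit 1), (nat_lit 0, nat_lit 39, nat_lit 51), (nat_lit 0, nat_lit 0, nat_lit 60),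 (nat_lit 0, nat_lit 0, nat_lit 53), (nat_lit 0, nat_lit 0, nat_lit 62), (nat_lit 0, nat_lit 0, nat_lit 80), (nat_lit 0, nat_lit 0, nat_lit 44), (nat_lit 0, nat_lit 0, nat_lit 45), (nat_lit 0, nat_lit 0, nat_lit 46), (nat_lit 0, nat_lit 0, nat_lit 47), (nat_lit 0, nat_lit 35, nat_lit 0), (nat_lit 0, nat_lit 69, nat_lit 49), (nat_lit 0, nat_lit 0, nat_lit 87), (nat_lit 0, nat_lit 0, nat_lit 81), (nat_lit 0, nat_lit 0, nat_lit 42), (nat_lit 0, nat_lit 0, nat_lit 83), (nat_lit 0, nat_lit 0, nat_lit 54), (nat_lit 0, nat_lit 0, nat_lit 55), (nat_lit 0, nat_lit 0, nat_lit 86), (nat_lit 0, nat_lit 0, nat_lit 94), (nat_lit 0, nat_lit 0, nat_lit 58), (nat_lit 0, nat_lit 79, nat_lit 49), (nat_lit 0, nat_lit 0, nat_lit 97), (nat_lit 0, nat_lit 0, nat_lit 98), (nat_lit 0, nat_lit 51, nat_lit 48), (nat_lit 0, nat_lit 0, nat_lit 1), (nat_lit 0, nat_lit 101, nat_lit 101), (nat_lit 0,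 nat_lit 0, nat_lit 85), (nat_lit 0, nat_lit 0, nat_lit 96), (nat_lit 0, nat_lit 0, nat_lit 87), (nat_lit 0, nat_lit 0, nat_lit 105), (nat_lit 0, nat_lit 0, nat_lit 69), (nat_lit 0, nat_lit 0, nat_lit 100), (nat_lit 0, nat_lit 0, nat_lit 91), (nat_lit 0, nat_lit 0, nat_lit 92), (nat_lit 0, nat_lit 0, nat_lit 110), (nat_lit 0, nat_lit 104, nat_lit 94), (nat_lit 0, nat_lit 0, nat_lit 75), (nat_lit 0, nat_lit 0, nat_lit 106), (nat_lit 0, nat_lit 0, nat_lit 67), (nat_lit 0, nat_lit 0, nat_lit 98), (nat_lit 0, nat_lit 67, nat_lit 0), (nat_lit 0, nat_lit 70, nat_lit 92), (nat_lit 0, nat_lit 0, nat_lit 71), (nat_lit 0, nat_lit 0, nat_lit 102), (nat_lit 0, nat_lit 0, nat_lit 95), (nat_lit 0, nat_lit 0, nat_lit 96), (nat_lit 0, nat_lit 0, nat_lit 122), (nat_lit 0, nat_lit 0, nat_lit 123), (nat_lit 0, nat_lit 24, nat_lit 0), (nat_lit 1, nat_lit 62, nat_lit 0), (nat_lit 1, nat_lit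 40, nat_lit 0), (nat_lit 1, nat_lit 16, nat_lit 0), (nat_lit 0, nat_lit 27, nat_lit 17), (nat_lit 0, nat_lit 0, nat_lit 12), (nat_lit 0, nat_lit 0, nat_lit 34), (nat_lit 0, nat_lit 0, nat_lit 30), (nat_lit 0, nat_lit 0, nat_lit 56), (nat_lit 0, nat_lit 0, nat_lit 32), (nat_lit 0, nat_lit 0, nat_lit 38), (nat_lit 0, nat_lit 0, nat_lit 18), (nat_lit 0, nat_lit 0, nat_lit 73), (nat_lit 0, nat_lit 11, nat_lit 9), (nat_lit 0, nat_lit 0, nat_lit 1), (nat_lit 0, nat_lit 53, nat_lit 22), (nat_lit 0, nat_lit 0, nat_lit 44), (nat_lit 0, nat_lit 0, nat_lit 16), (nat_lit 0, nat_lit 0, nat_lit 46), (nat_lit 0, nat_lit 0, nat_lit 80), (nat_lit 0, nat_lit 0, nat_lit 27), (nat_lit 0, nat_lit 0, nat_lit 34), (nat_lit 0, nat_lit 0, nat_lit 29), (nat_lit 0, nat_lit 0, nat_lit 84), (nat_lit 0, nat_lit 0, nat_lit 47), (nat_lit 0, nat_lit 23, nat_lit 0), (nat_lit 0, nat_lit 64, nat_lit 87),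 (nat_lit 0, nat_lit 0, nat_lit 50), (nat_lit 0, nat_lit 0, nat_lit 76), (nat_lit 0, nat_lit 0, nat_lit 77), (nat_lit 0, nat_lit 0, nat_lit 53), (nat_lit 0, nat_lit 0, nat_lit 54), (nat_lit 0, nat_lit 29, nat_lit 0), (nat_lit 1, nat_lit 18, nat_lit 0), (nat_lit 0, nat_lit 1, nat_lit 1), (nat_lit 0, nat_lit 0, nat_lit 20), (nat_lit 0, nat_lit 0, nat_lit 3), (nat_lit 0, nat_lit 3, nat_lit 0)]
def g_s0 : Nat := nat_lit 0x97ef6687ae62b76d6ea72c6abf4decaf0ce89fcfe48f8ee015e74605a64235654e25244a3d45cc2d04c81dc7c40d86c0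
def g_s1 : Nat := nat_lit 0xbeef7c28b6198a3c311c6554ffeb6c69b209cb38215d6144aeae7838f71d9a7d350c2450efaa6879f30ddb79254d2040
def g_s2 : Nat := nat_lit 0x69b619ffef7c5d6554cb3c31b6cbee20928b8218a31441c671d79fe78efa4504d2d35db7aeaa6838f30d9a79250c2040
def g_s3 : Nat := nat_lit 0xe78efaf7cffecb3c31db7d35a29aabb2dbaf8e28609e696475c7de6586da59751549341130d38f20928b1c61440c2040
def g_s4 : Nat := nat_lit 0xe78efaf7cffedf6d74cf2c70bafb2daaba298218a39259a779f71d69b6194114935155972482ca34c3ce1c61440c2040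
def g_s5 : Nat := nat_lit 0xf3dfbfe39ebbd74df6c70cf2bafb2daaba299e69648e286071d79f61969b5545d64504d238f30d28b2091c61440c2040
def g_s6 : Nat := nat_lit 0xf7cffee78efad74df6c70cf2a68aeab6cbee8608e29649e66da6587de75c4d24505d65543ce34c2ca2481c61440c2040
def g_s7 : Nat := nat_lit 0xefae78ffef7ccf2c70df6d74b6cbeea68aea9649e68608e26586da75c7de4504d25545d63ce34c2ca2481c61440c2040
def g_s8 : Nat := nat_lit 0xefae78ffef7ccf2c70df6d74aeaa68beeb6c8e28609e69647de75c6da6585d65544d24503ce34c2ca2481c61440c2040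
noncomputable def g_lev0 : Core.Lev := Core.mkLev g_n g_w g_mask g_L g_maskL g_idc (nat_lit 1) [g_s8, g_s6, g_s7, g_s3, g_s4, g_s5, g_s2, g_s1, g_s0] [(nat_lit 27, g_s0, nat_lit 1), (nat_lit 31, g_s6, nat_lit 27), (nat_lit 29, g_s7, nat_lit 27), (nat_lit 25, g_s3, nat_lit 27), (nat_lit 26, g_s4, nat_lit 27), (nat_lit 24, g_s5, nat_lit 27), (nat_lit 57, g_s2, nat_lit 27), (nat_lit 14, g_s1, nat_lit 27), (nat_lit 30, g_s4, nat_lit 31), (nat_lit 28, g_s5, nat_lit 31), (nat_lit 43, g_s1, nat_lit 31), (nat_lit 5, g_s0, nat_lit 31), (nat_lit 59, g_s2, nat_lit 25), (nat_lit 56, g_s2, nat_lit 26), (nat_lit 15, g_s1, nat_lit 26), (nat_lit 58, g_s2, nat_lit 24), (nat_lit 2, g_s0, nat_lit 24), (nat_lit 61, g_s8, nat_lit 57), (nat_lit 63, g_s3, nat_lit 57), (nat_lit 13, g_s3, nat_lit 14), (nat_lit 8, g_s4, nat_lit 14), (nat_lit 42, g_s2, nat_lit 14), (nat_lit 20, g_s0, nat_lit 14),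 (nat_lit 6, g_s0, nat_lit 28), (nat_lit 47, g_s8, nat_lit 43), (nat_lit 45, g_s6, nat_lit 43), (nat_lit 41, g_s7, nat_lit 43), (nat_lit 44, g_s3, nat_lit 43), (nat_lit 36, g_s2, nat_lit 5), (nat_lit 10, g_s1, nat_lit 59), (nat_lit 33, g_s0, nat_lit 59), (nat_lit 60, g_s8, nat_lit 56), (nat_lit 62, g_s3, nat_lit 56), (nat_lit 34, g_s0, nat_lit 56), (nat_lit 12, g_s3, nat_lit 15), (nat_lit 9, g_s4, nat_lit 15), (nat_lit 11, g_s1, nat_lit 58), (nat_lit 18, g_s1, nat_lit 2), (nat_lit 37, g_s0, nat_lit 63), (nat_lit 23, g_s0, nat_lit 13), (nat_lit 46, g_s8, nat_lit 42), (nat_lit 40, g_s7, nat_lit 42), (nat_lit 48, g_s0, nat_lit 42), (nat_lit 16, g_s6, nat_lit 20), (nat_lit 21, g_s3, nat_lit 20), (nat_lit 19, g_s4, nat_lit 20), (nat_lit 22, g_s5, nat_lit 20), (nat_lit 53, g_s1, nat_lit 20), (nat_lit 39, g_s2, nat_lit 6), (nat_lit 55, g_s1, nat_lit 6), (nat_lit 51, g_s0, nat_lit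 41), (nat_lit 32, g_s8, nat_lit 36), (nat_lit 38, g_s7, nat_lit 36), (nat_lit 35, g_s4, nat_lit 36), (nat_lit 7, g_s2, nat_lit 33), (nat_lit 4, g_s2, nat_lit 34), (nat_lit 17, g_s7, nat_lit 23), (nat_lit 52, g_s0, nat_lit 46), (nat_lit 50, g_s6, nat_lit 48), (nat_lit 49, g_s2, nat_lit 48), (nat_lit 3, g_s1, nat_lit 19), (nat_lit 54, g_s3, nat_lit 51)]
noncomputable def g_lev1 : Core.Lev := Core.mkLev g_n g_w g_mask g_L g_maskL g_idc (nat_lit 2) [g_s8, g_s6, g_s7, g_s3, g_s4, g_s5, g_s2, g_s1] [(nat_lit 18, g_s1, nat_lit 2), (nat_lit 22, g_s6, nat_lit 18), (nat_lit 20, g_s7, nat_lit 18), (nat_lit 19, g_s3, nat_lit 18), (nat_lit 21, g_s4, nat_lit 18), (nat_lit 16, g_s5, nat_lit 18), (nat_lit 53, g_s2, nat_lit 18), (nat_lit 23, g_s3, nat_lit 22), (nat_lit 17, g_s4, nat_lit 22), (nat_lit 39, g_s1, nat_lit 22), (nat_lit 52, g_s2, nat_lit 19), (nat_lit 3, g_s1, nat_lit 19),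 (nat_lit 55, g_s2, nat_lit 16), (nat_lit 49, g_s8, nat_lit 53), (nat_lit 48, g_s3, nat_lit 53), (nat_lit 38, g_s1, nat_lit 23), (nat_lit 54, g_s2, nat_lit 17), (nat_lit 35, g_s8, nat_lit 39), (nat_lit 33, g_s6, nat_lit 39), (nat_lit 37, g_s7, nat_lit 39), (nat_lit 32, g_s4, nat_lit 39), (nat_lit 50, g_s1, nat_lit 39), (nat_lit 51, g_s8, nat_lit 55), (nat_lit 34, g_s1, nat_lit 55), (nat_lit 36, g_s7, nat_lit 38), (nat_lit 5, g_s2, nat_lit 35), (nat_lit 7, g_s2, nat_lit 33), (nat_lit 6, g_s2, nat_lit 32), (nat_lit 4, g_s1, nat_lit 32)]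
noncomputable def g_lev2 : Core.Lev := Core.mkLev g_n g_w g_mask g_L g_maskL g_idc (nat_lit 4) [g_s8, g_s6, g_s7, g_s3, g_s4, g_s5, g_s2] [(nat_lit 37, g_s2, nat_lit 4), (nat_lit 33, g_s8, nat_lit 37), (nat_lit 35, g_s6, nat_lit 37), (nat_lit 39, g_s7, nat_lit 37), (nat_lit 34, g_s4, nat_lit 37), (nat_lit 38, g_s4, nat_lit 33), (nat_lit 7, g_s2, nat_lit 33), (nat_lit 36, g_s4, nat_lit 35), (nat_lit 5, g_s2, nat_lit 35), (nat_lit 32, g_s4, nat_lit 39), (nat_lit 6, g_s2, nat_lit 32)]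
noncomputable def g_lev3 : Core.Lev := Core.mkLev g_n g_w g_mask g_L g_maskL g_idc (nat_lit 8) [g_s8, g_s6, g_s7, g_s3, g_s4, g_s5] [(nat_lit 11, g_s3, nat_lit 8), (nat_lit 14, g_s4, nat_lit 8), (nat_lit 9, g_s5, nat_lit 8), (nat_lit 13, g_s4, nat_lit 11), (nat_lit 10, g_s5, nat_lit 11), (nat_lit 15, g_s5, nat_lit 14), (nat_lit 12, g_s5, nat_lit 13)]
noncomputable def g_lev4 : Core.Lev := Core.mkLev g_n g_w g_mask g_L g_maskL g_idc (nat_lit 16) [g_s8, g_s6, g_s7] [(nat_lit 20, g_s6, nat_lit 16), (nat_lit 22, g_s7, nat_lit 16), (nat_lit 18, g_s7, nat_lit 20)]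
noncomputable def g_lev5 : Core.Lev := Core.mkLev g_n g_w g_mask g_L g_maskL g_idc (nat_lit 32) [g_s8] [(nat_lit 36, g_s8, nat_lit 32)]
noncomputable def g_levels : List Core.Lev := [g_lev0, g_lev1, g_lev2, g_lev3, g_lev4, g_lev5]

end Cfsg.Agent.Lib.Schur.Sp62.Data
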