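import Cfsg.Agent.Lib.Schur.Sp62.Data
import Cfsg.Agent.Lib.Classical.SympSimple
import Cfsg.Agent.Lib.Classical.SympCount
import Cfsg.Agent.Lib.Classical.FieldTransfer

/-!
# `Sp₆(2)` as a permutation group on the 64 vectors
-/

set_option autoImplicit false
set_option maxRecDepth 100000

namespace Cfsg.Agent.Lib.Schur.Sp62.Main

open scoped Matrix
open _root_.Cfsg.Agent.Lib.PermComp
open Cfsg.Agent.Lib.Schur.Sp62.Data

/-- The prime field. -/
abbrev K2 : Type := ZMod 2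

/-- The index set. -/
abbrev Idx : Type := Fin 3 ⊕ Fin 3

/-- The vectors. -/
abbrev V : Type := Idx → K2

/-- The symplectic group. -/
abbrev Sp : Type := ↥(Matrix.symplecticGroup (Fin 3) K2)

/-- The number of a vector. -/
def enc (v : V) : ℕ :=
  (v (.inl 0)).val + 2 * (v (.inl 1)).val + 4 * (v (.inl 2)).val +
    8 * (v (.inr 0)).val + 16 * (v (.inr 1)).val + 32 * (v (.inr 2)).val

/-- The vector of a number. -/
def dec (i : ℕ) : V := fun x => match x with
  | .inl j => ((i / 2 ^ j.val % 2 : ℕ) : K2)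
  | .inr j => ((i / 2 ^ (3 + j.val) % 2 : ℕ) : K2)

theorem enc_lt (v : V) : enc v < g_n := by
  have h : ∀ a : K2, a.val ≤ 1 := by decide
  have h1 := h (v (.inl 0))
  have h2 := h (v (.inl 1))
  have h3 := h (v (.inl 2))
  have h4 := h (v (.inr 0))
  have h5 := h (v (.inr 1))
  have h6 := h (v (.inr 2))
  show enc v < 64
  unfold enc
  omega

theorem enc_dec : ∀ i : Fin g_n, enc (dec i.1) = i.1 := by
  decide +kernel

theorem card_V : Fintype.card V = g_n := by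
  simp [g_n, ZMod.card]

/-- The numbering of the vectors. -/
noncomputable def e : V ≃ Fin g_n :=
  Equiv.ofBijective (fun v => ⟨enc v, enc_lt v⟩)
    ((Fintype.bijective_iff_surjective_and_card _).2
      ⟨fun i => ⟨dec i.1, Fin.ext (enc_dec i)⟩, by rw [card_V]; simp⟩)

theorem e_coe (v : V) : ((e v : Fin g_n) : ℕ) = enc v := rfl

theorem dec_enc (v : V) : dec (enc v) = v := by
  have h : e (dec (enc v)) = e v := Fin.ext (by rw [e_coe]; exact enc_dec ⟨enc v, enc_lt v⟩)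
  exact e.injective h

/-- The action on the vectors. -/
def rho : Sp →* Equiv.Perm V where
  toFun A :=
    { toFun := fun v => A.1 *ᵥ v
      invFun := fun v => (A⁻¹).1 *ᵥ v
      left_inv := fun v => by
        show (A⁻¹).1 *ᵥ (A.1 *ᵥ v) = v
        rw [Matrix.mulVec_mulVec]
        have : (A⁻¹).1 * A.1 = 1 := congrArg Subtype.val (inv_mul_cancel A)
        rw [this, Matrix.one_mulVec]
      right_inv := fun v => by
        show A.1 *ᵥ ((A⁻¹).1 *ᵥ v) = v
        rw [Matrix.mulVec_mulVec]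
        have : A.1 * (A⁻¹).1 = 1 := congrArg Subtype.val (mul_inv_cancel A)
        rw [this, Matrix.one_mulVec] }
  map_one' := by
    ext v
    simp
  map_mul' A B := by
    ext v
    simp [Matrix.mulVec_mulVec]

theorem rho_apply (A : Sp) (v : V) : rho A v = A.1 *ᵥ v := rfl

theorem rho_inj : Function.Injective rho := by
  intro A B h
  apply Subtype.ext
  apply Matrix.mulVec_injective
  funext v
  exact congrArg (fun f : Equiv.Perm V => f v) h

def M0 : Matrix Idx Idx K2 := Matrix.fromBlocks (!![1, 0, 0; 1, 0, 0; 0, 0, 1]) (!![0, 0, 0; 0, 1, 0; 0, 0, 0]) (!![1, 1, 0; 1, 1, 0; 0, 0, 0]) (!![1, 1, 0; 0, 0, 0; 0, 0, 1])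

theorem M0_mem : M0 ∈ Matrix.symplecticGroup (Fin 3) K2 := by
  rw [SymplecticGroup.mem_iff]
  decide +kernel

theorem M0_act : ∀ i : Fin g_n, Core.app g_w g_mask (g_T.getD 0 0) i.1 = enc (M0 *ᵥ dec i.1) := by
  decide +kernel

def M1 : Matrix Idx Idx K2 := Matrix.fromBlocks (!![0, 1, 1; 1, 0, 1; 1, 1, 0]) (!![1, 1, 1; 1, 1, 1; 1, 1, 1]) (!![1, 1, 1; 1, 1, 1; 1, 1, 1]) (!![0, 1, 1; 1, 0, 1; 1, 1, 0])

theorem M1_mem : M1 ∈ Matrix.symplecticGroup (Fin 3) K2 := by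
  rw [SymplecticGroup.mem_iff]
  decide +kernel

theorem M1_act : ∀ i : Fin g_n, Core.app g_w g_mask (g_T.getD 1 0) i.1 = enc (M1 *ᵥ dec i.1) := by
  decide +kernel

def M2 : Matrix Idx Idx K2 := Matrix.fromBlocks (!![1, 0, 0; 0, 1, 0; 0, 0, 0]) (!![0, 0, 0; 0, 0, 0; 0, 0, 1]) (!![0, 0, 0; 0, 0, 0; 0, 0, 1]) (!![1, 0, 0; 0, 1, 0; 0, 0, 0])

theorem M2_mem : M2 ∈ Matrix.symplecticGroup (Fin 3) K2 := by
  rw [SymplecticGroup.mem_iff]
  decide +kernel

theorem M2_act : ∀ i : Fin g_n, Core.app g_w g_mask (g_T.getD 2 0) i.1 = enc (M2 *ᵥ dec i.1) := by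
  decide +kernel

def M3 : Matrix Idx Idx K2 := Matrix.fromBlocks (!![1, 0, 0; 1, 1, 0; 0, 0, 1]) (!![0, 0, 0; 0, 1, 0; 0, 0, 0]) (!![1, 0, 0; 0, 0, 0; 0, 0, 0]) (!![1, 1, 0; 0, 1, 0; 0, 0, 1])

theorem M3_mem : M3 ∈ Matrix.symplecticGroup (Fin 3) K2 := by
  rw [SymplecticGroup.mem_iff]
  decide +kernel

theorem M3_act : ∀ i : Fin g_n, Core.app g_w g_mask (g_T.getD 3 0) i.1 = enc (M3 *ᵥ dec i.1) := by
  decide +kernel

def M4 : Matrix Idx Idx K2 := Matrix.fromBlocks (!![1, 0, 0; 0, 1, 0; 0, 0, 1]) (!![1, 1, 0; 1, 1, 0; 0, 0, 0]) (!![0, 0, 0; 0, 0, 0; 0, 0, 0]) (!![1, 0, 0; 0, 1, 0; 0, 0, 1])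

theorem M4_mem : M4 ∈ Matrix.symplecticGroup (Fin 3) K2 := by
  rw [SymplecticGroup.mem_iff]
  decide +kernel

theorem M4_act : ∀ i : Fin g_n, Core.app g_w g_mask (g_T.getD 4 0) i.1 = enc (M4 *ᵥ dec i.1) := by
  decide +kernel

def M5 : Matrix Idx Idx K2 := Matrix.fromBlocks (!![1, 0, 0; 0, 1, 0; 0, 0, 1]) (!![0, 0, 0; 0, 1, 1; 0, 1, 1]) (!![0, 0, 0; 0, 0, 0; 0, 0, 0]) (!![1, 0, 0; 0, 1, 0; 0, 0, 1])

theorem M5_mem : M5 ∈ Matrix.symplecticGroup (Fin 3) K2 := by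
  rw [SymplecticGroup.mem_iff]
  decide +kernel

theorem M5_act : ∀ i : Fin g_n, Core.app g_w g_mask (g_T.getD 5 0) i.1 = enc (M5 *ᵥ dec i.1) := by
  decide +kernel

def M6 : Matrix Idx Idx K2 := Matrix.fromBlocks (!![1, 0, 1; 0, 1, 0; 0, 0, 1]) (!![1, 0, 0; 0, 0, 0; 0, 0, 0]) (!![0, 0, 0; 0, 0, 0; 0, 0, 1]) (!![1, 0, 0; 0, 1, 0; 1, 0, 1])

theorem M6_mem : M6 ∈ Matrix.symplecticGroup (Fin 3) K2 := by
  rw [SymplecticGroup.mem_iff]
  decide +kernel

theorem M6_act : ∀ i : Fin g_n, Core.app g_w g_mask (g_T.getD 6 0) i.1 = enc (M6 *ᵥ dec i.1) := by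
  decide +kernel

/-- The generators. -/
def A : Fin 7 → Sp := ![⟨M0, M0_mem⟩, ⟨M1, M1_mem⟩, ⟨M2, M2_mem⟩, ⟨M3, M3_mem⟩, ⟨M4, M4_mem⟩, ⟨M5, M5_mem⟩, ⟨M6, M6_mem⟩]

theorem act_all : ∀ k : Fin 7, ∀ i : Fin g_n, Core.app g_w g_mask (g_T.getD k 0) i.1 = enc ((A k).1 *ᵥ dec i.1) := by
  intro k
  fin_cases k
  · exact M0_act
  · exact M1_act
  · exact M2_act
  · exact M3_act
  · exact M4_act
  · exact M5_act
  · exact M6_act

theorem rep_A (k : Fin 7) : Core.Rep g_w g_mask e (g_T.getD k 0) (rho (A k)) := by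
  intro a
  have h := act_all k ⟨enc a, enc_lt a⟩
  rw [e_coe, h, dec_enc, e_coe, rho_apply]

theorem len_T : g_T.length = 7 := by decide +kernel

theorem rep_T : ∀ c ∈ g_T, ∃ g, Core.Rep g_w g_mask e c g ∧ g ∈ rho.range := by
  intro c hc
  obtain ⟨i, hi, rfl⟩ := List.mem_iff_getElem.1 hc
  refine ⟨rho (A ⟨i, by rw [← len_T]; exact hi⟩), ?_, ⟨_, rfl⟩⟩
  have := rep_A ⟨i, by rw [← len_T]; exact hi⟩
  rwa [List.getD_eq_getElem _ _ hi] at this

theorem chain_ok : Core.checkAll g_n g_w g_mask g_L g_maskL g_idc g_T g_prog g_levels = true := by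
  decide +kernel

theorem order_ok : Core.orderC g_levels = 1451520 := by
  decide +kernel

/-- The permutation group. -/
noncomputable abbrev Hg : Subgroup (Equiv.Perm V) := Core.H g_w g_mask e g_T

theorem main_H : g_mask = 2 ^ g_w - 1 ∧ (∀ i < g_n, Core.app g_w g_mask g_idc i = i) ∧ g_idc < 2 ^ (g_n * g_w) ∧
      Core.Sem g_w g_mask e g_L g_maskL g_levels ∧ Hg = Core.H g_w g_mask e (Core.topGens g_levels) ∧
      Nat.card Hg = Core.orderC g_levels :=
  Core.main_of_checkAll (fun c hc => (rep_T c hc).imp fun _ h => h.1) chain_ok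

theorem card_Hg : Nat.card Hg = 1451520 := by
  rw [main_H.2.2.2.2.2, order_ok]

theorem card_Sp : Nat.card Sp = 1451520 := by
  rw [Cfsg.Agent.Lib.Classical.SympCount.card_symplecticGroup (q := 2) (by simp [Nat.card_eq_fintype_card, ZMod.card]) 3]
  decide +kernel

theorem Hg_eq : Hg = rho.range := by
  apply Subgroup.eq_of_le_of_card_ge
  · apply (Subgroup.closure_le _).2
    rintro g ⟨c, hc, hg⟩
    obtain ⟨g', hg', hr⟩ := rep_T c hc
    rw [hg.unique hg']
    exact hr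
  · rw [card_Hg, ← card_Sp]
    exact le_of_eq (Nat.card_congr (MonoidHom.ofInjective rho_inj).toEquiv).symm

/-- `Sp₆(2)` is the permutation group. -/
noncomputable def equivSp : Sp ≃* Hg :=
  (MonoidHom.ofInjective rho_inj).trans (MulEquiv.subgroupCongr Hg_eq.symm)

section transfer

variable {F K : Type*} [Field F] [Field K]

theorem J_map (f : F ≃+* K) : (Matrix.J (Fin 3) F).map f = Matrix.J (Fin 3) K := by
  ext (i | i) (j | j) <;> simp [Matrix.J, Matrix.one_apply, apply_ite f]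

theorem sp_map (f : F ≃+* K) (A : Matrix (Fin 3 ⊕ Fin 3) (Fin 3 ⊕ Fin 3) F) (h : A ∈ Matrix.symplecticGroup (Fin 3) F) :
    A.map f ∈ Matrix.symplecticGroup (Fin 3) K := by
  rw [SymplecticGroup.mem_iff]
  have h1 := SymplecticGroup.mem_iff.mp h
  have key : (A * Matrix.J (Fin 3) F * Aᵀ).map f = A.map f * Matrix.J (Fin 3) K * (A.map f)ᵀ := by
    rw [← J_map f]
    ext i j
    simp only [Matrix.map_apply, Matrix.mul_apply, Matrix.transpose_apply, map_sum, map_mul]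
  rw [← key, h1, J_map]

/-- A field isomorphism induces an isomorphism of symplectic groups. -/
def spCongr (f : F ≃+* K) : Matrix.symplecticGroup (Fin 3) F ≃* Matrix.symplecticGroup (Fin 3) K where
  toFun A := ⟨A.1.map f, sp_map f _ A.2⟩
  invFun A := ⟨A.1.map f.symm, sp_map f.symm _ A.2⟩
  left_inv A := by
    apply Subtype.ext
    ext i j
    simp
  right_inv A := by
    apply Subtype.ext
    ext i j
    simp
  map_mul' A B := by
    apply Subtype.ext
    ext i j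
    simp [Matrix.mul_apply, map_sum]

end transfer

theorem center_Sp : Subgroup.center Sp = ⊥ := by
  rw [eq_bot_iff]
  intro A hA
  have h := (Cfsg.Agent.Lib.Classical.SympSimple.mem_center_symplecticGroup_iff (by norm_num) A).1 hA
  rcases h with h | h
  · exact h
  · rw [h]
    apply Subtype.ext
    show -(1 : Matrix Idx Idx K2) = 1
    decide +kernel

/-- The group of the statement. -/
theorem nonempty_equiv {F : Type*} [Field F] [Fintype F] (hF : Fintype.card F = 2) : Nonempty (Cfsg.PSp 3 F ≃* Hg) := by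
  have f : F ≃+* K2 := FiniteField.ringEquivOfCardEq (by rw [hF, ZMod.card])
  refine ⟨(Cfsg.Agent.Lib.Classical.FieldTransfer.centralQuotientCongr (spCongr f)).trans
    (((QuotientGroup.quotientMulEquivOfEq center_Sp).trans QuotientGroup.quotientBot).trans equivSp)⟩

end Cfsg.Agent.Lib.Schur.Sp62.Main
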